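import Cfsg.Agent.Mrg.Omega.Mix.Control
import Cfsg.Agent.Mrg.Omega.Mix.Entry
import Cfsg.Prelude.Def_Transfer
import Cfsg.Agent.WeakTI.ToS1179
import Cfsg.Agent.OddHalf.Known
import Cfsg.Agent.SmallSimple.PSLTwoPart
import Mathlib

-- merged: Cfsg.Agent.Mrg.Omega.Mix.TI
section

/-!
# A mixed pair, `q ≥ 4`, `W₁ ≠ V₁`, satisfies the hypotheses of the closing by TI-subgroups

* `MixedN.exists_fin` : the input of (6), (7), (s3);
* `FIn.le_iff` : `W₁ ≤ V₁` iff `W₂ ≤ V₂`;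
* `MixedN.exists_ti` : `A = W₁` or `A = W₂` is elementary abelian, `C_G(A) ≤ A`, `N_G(A)` is transitive on `A#`, and
  `C_G(a) ≤ N_G(A)` for one `a`.
-/

set_option autoImplicit false
set_option linter.unusedSectionVars false

namespace Cfsg.Agent.Omega.Mix

open Subgroup Cfsg.Agent.Lib.SL2Mat Cfsg.Agent.Omega.BTwo
open Cfsg.Agent.Omega.NatPair (dt dt_smul dt_add exists_smul_of_dt exists_comb ap ap_smul ap_zero' ap_one' ap_mul
  ap_inv_ap ap_ap_inv ap_one)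

universe u

variable {G : Type u} [Group G] {F₁ F₂ : Type*} [Field F₁] [Field F₂] {V₁ V₂ N₁ N₂ : Subgroup G} {M₁ : RMod F₁ V₁ N₁}
  {M₂ : RMod F₂ V₂ N₂} {R : Subgroup G}

/-- `C_G(r)` is a local subgroup -/
theorem char2_cent [Finite G] {r : G} (hrr : r * r = 1) (hr1 : r ≠ 1)
    (hch : ∀ K : Subgroup G, IsPGroup 2 K → K ≠ ⊥ → Char2 (normalizer (K : Set G))) :
    Char2 (centralizer ({r} : Set G)) := by
  have hmem : ∀ x, x ∈ zpowers r ↔ x = 1 ∨ x = r := by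
    intro x
    constructor
    · rintro ⟨k, rfl⟩
      rcases Int.even_or_odd' k with ⟨m, rfl | rfl⟩
      · left
        show r ^ (2 * m) = 1
        rw [zpow_mul, zpow_ofNat, pow_two, hrr, one_zpow]
      · right
        show r ^ (2 * m + 1) = r
        rw [zpow_add, zpow_mul, zpow_ofNat, pow_two, hrr, one_zpow, one_mul, zpow_one]
    · rintro (rfl | rfl)
      · exact one_mem _
      · exact mem_zpowers _
  have h1 : normalizer (zpowers r : Set G) = centralizer ({r} : Set G) := by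
    ext g
    constructor
    · intro hg
      have h1 := (mem_normalizer_iff.1 hg r).1 (mem_zpowers r)
      rw [mem_centralizer_iff]
      rintro x rfl
      rcases (hmem _).1 h1 with h | h
      · exact absurd (conj_eq_one_iff.1 h) hr1
      · exact (mul_inv_eq_iff_eq_mul.1 h).symm
    · intro hg
      refine mem_normalizer_of_conj fun x hx => ?_
      rcases (hmem x).1 hx with rfl | rfl
      · rw [mul_one, mul_inv_cancel]; exact one_mem _
      · rw [← mem_centralizer_iff.1 hg x rfl, mul_inv_cancel_right]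
        exact mem_zpowers _
  rw [← h1]
  refine hch _ ?_ fun h0 => hr1 (zpowers_eq_bot.1 h0)
  rintro ⟨x, hx⟩
  refine ⟨1, ?_⟩
  rw [pow_one, pow_two]
  apply Subtype.ext
  rcases (hmem x).1 hx with rfl | rfl
  · exact mul_one _
  · exact hrr

namespace FIn

variable [Finite G] {w₁ : Fin 2 → F₁} {w₂ : Fin 2 → F₂} (f : FIn M₁ M₂ R w₁ w₂)
include f

/-- `W₁ = V₁` implies `W₂ = V₂` -/
theorem le_of_le (h : LL V₁ R R ≤ V₁) : LL V₂ R R ≤ V₂ := by
  intro b hb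
  have h1R : (1 : G) ∈ normalizer (R : Set G) := one_mem _
  refine f.symm.perp hb fun a ha => ?_
  -- `a ∈ C_{W₁}(V₂)`
  obtain ⟨haW, haV⟩ := mem_TT.1 ha
  have haR : a ∈ R := by
    by_contra haR
    -- `V₂` centralises `V₁ = W₁`
    have h2 : ∀ v ∈ V₂, v ∈ R := by
      intro v hv
      have hvW := V_le_LL V₂ R hv
      refine f.pai.nd' v hvW fun a' ha' => ?_
      have h3 := comm_line M₁ f.ne₁ f.line₁ (f.W₂_ZZ hvW) h1R (a := a)
        (by rw [cj_one]; exact h haW) haR (haV v hv) a' (by rw [cj_one]; exact h ha')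
      exact h3
    have h4 := not_le_line M₂ f.ne₂
    rw [← f.line₂] at h4
    exact h4 h2
  exact (f.symm.pai.R_comm haR hb).symm

theorem le_iff : LL V₁ R R ≤ V₁ ↔ LL V₂ R R ≤ V₂ := ⟨f.le_of_le, f.symm.le_of_le⟩

variable [Finite F₁] [Finite F₂] [CharP F₁ 2] [CharP F₂ 2]

theorem trans (hC₁ : ∀ i, LL V₁ R (pt M₁ i) = LL V₁ R R) :
    ∀ x ∈ LL V₁ R R, ∀ y ∈ LL V₁ R R, x ≠ 1 → y ≠ 1 →
      ∃ n ∈ normalizer (LL V₁ R R : Set G), n * x * n⁻¹ = y := by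
  intro x hx y hy hx1 hy1
  obtain ⟨n, hn, h1⟩ := f.trans_W₁ hC₁ hx hx1
  obtain ⟨k, hk, h2⟩ := f.trans_W₁ hC₁ hy hy1
  refine ⟨k⁻¹ * n, mul_mem (inv_mem hk) hn, ?_⟩
  calc k⁻¹ * n * x * (k⁻¹ * n)⁻¹ = k⁻¹ * (n * x * n⁻¹) * k := by group
    _ = k⁻¹ * (k * y * k⁻¹) * k := by rw [h1, h2]
    _ = y := by group

end FIn

/-- the output -/
structure TIOut (A : Subgroup G) : Prop where
  elem : Cfsg.IsElementaryAbelian 2 A
  cent : centralizer (A : Set G) ≤ A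
  trans : ∀ x ∈ A, ∀ y ∈ A, x ≠ 1 → y ≠ 1 → ∃ n ∈ normalizer (A : Set G), n * x * n⁻¹ = y
  ctl : ∃ a ∈ A, a ≠ 1 ∧ centralizer ({a} : Set G) ≤ normalizer (A : Set G)

namespace MixedN

variable (m : MixedN M₁ M₂ R) [Finite G] [Finite F₁] [Finite F₂] [CharP F₁ 2] [CharP F₂ 2]
include m

/-- the input of (6), (7), (s3) -/
theorem exists_fin : ∃ w₁ w₂, FIn M₁ M₂ R w₁ w₂ := by
  obtain ⟨w₁, hw₁, hR₁⟩ := m.line₁
  obtain ⟨w₂, hw₂, hR₂⟩ := m.line₂
  exact ⟨w₁, w₂,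
    { ne₁ := hw₁
      ne₂ := hw₂
      line₁ := hR₁
      line₂ := hR₂
      Q₁ := m.QQ_le_UW hw₁ hR₁
      Q₂ := m.symm.QQ_le_UW hw₂ hR₂
      VQ₁ := m.V_le_QQ
      VQ₂ := m.symm.V_le_QQ
      comm₁ := m.comm₁
      comm₂ := m.comm₂
      cen := m.center.le
      side₁ := m.side
      side₂ := m.symm.side }⟩

/-- **(8)** -/
theorem W_pt (hF : ∃ l : F₁, l ≠ 0 ∧ l ≠ 1) (i : Pt M₁) : LL V₁ R (pt M₁ i) = LL V₁ R R := by
  obtain ⟨j, hj⟩ := m.exists_pt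
  have h1 := m.side.C_eq_of_cen hF (fun i x hx hx' => ?_) i j
  · have h2 : LL V₁ R (pt M₁ i) = LL V₁ R (pt M₁ j) := h1
    rwa [hj] at h2
  · have h3 : x ∈ YY (LL V₂ R (pt M₁ i)) (LL V₁ R (pt M₁ i)) :=
      mem_YY.2 ⟨fun b hb => (m.facts_at i).B_comm x hx b hb, fun c hc => (m.facts_at i).C_comm x hx' c hc⟩
    rwa [m.center_at i] at h3

/-- a central involution of a Sylow 2-subgroup in `R` -/
theorem exists_r : ∃ r ∈ R, r ≠ 1 ∧ r * r = 1 ∧ ∃ S : Sylow 2 G, (S : Subgroup G) ≤ N₁ ∧ (S : Subgroup G) ≤ N₂ ∧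
    (S : Subgroup G) ≤ normalizer (R : Set G) ∧ ∀ s ∈ (S : Subgroup G), s * r = r * s := by
  obtain ⟨S, h1, h2, h3, h4⟩ := m.sylow
  obtain ⟨z, hz, -, hz1, hzz, hzc⟩ := exists_central m.R_pGroup h3 m.R_ne
  exact ⟨z, hz, hz1, hzz, S, h1, h2, h3, hzc⟩

theorem tiOut (hF : ∃ l : F₁, l ≠ 0 ∧ l ≠ 1)
    (h : ∃ r ∈ R, r ≠ 1 ∧ centralizer ({r} : Set G) ≤ normalizer (LL V₁ R R : Set G)) : TIOut (LL V₁ R R) where
  elem := ⟨⟨⟨fun a b => Subtype.ext (m.comm₁ a a.2 b b.2)⟩⟩, fun a ha => by rw [pow_two]; exact m.facts.C_sq a ha⟩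
  cent := by
    obtain ⟨w₁, w₂, f⟩ := m.exists_fin
    exact f.cen_W₁
  trans := by
    obtain ⟨w₁, w₂, f⟩ := m.exists_fin
    exact f.trans (m.W_pt hF)
  ctl := by
    obtain ⟨r, hr, hr1, h⟩ := h
    exact ⟨r, (m.RV.trans (V_le_LL V₁ R)) hr, hr1, h⟩

/-- the fields have the same order -/
theorem field₂ (hF : ∃ l : F₁, l ≠ 0 ∧ l ≠ 1) : ∃ l : F₂, l ≠ 0 ∧ l ≠ 1 := by
  have h1 := m.card_eq
  by_contra hcon
  push Not at hcon
  have h2 : Nat.card F₂ ≤ 2 := by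
    have h3 : ∀ x : F₂, x = 0 ∨ x = 1 := fun x => by
      by_cases hx : x = 0
      · exact Or.inl hx
      · exact Or.inr (hcon x hx)
    have h4 : Function.Surjective (fun i : Fin 2 => if i = 0 then (0 : F₂) else 1) := by
      intro x
      rcases h3 x with h | h
      · exact ⟨0, by rw [h]; rfl⟩
      · exact ⟨1, by rw [h]; rfl⟩
    have h5 := Nat.card_le_card_of_surjective _ h4
    simpa using h5
  obtain ⟨l, hl0, hl1⟩ := hF
  have h6 : Function.Injective (fun i : Fin 3 => if i = 0 then (0 : F₁) else if i = 1 then 1 else l) := by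
    intro i j h
    fin_cases i <;> fin_cases j <;> simp_all
  have h7 := Nat.card_le_card_of_injective _ h6
  simp at h7
  omega

/-- **`q ≥ 4`, `W₁ ≠ V₁`** -/
theorem exists_ti (hF : ∃ l : F₁, l ≠ 0 ∧ l ≠ 1) (hW : ¬ LL V₁ R R ≤ V₁) :
    ∃ A : Subgroup G, (A = LL V₁ R R ∨ A = LL V₂ R R) ∧ TIOut A := by
  obtain ⟨w₁, w₂, f⟩ := m.exists_fin
  obtain ⟨r, hr, hr1, hrr, S, -, -, hS, hSr⟩ := m.exists_r
  have hW₂ : ¬ LL V₂ R R ≤ V₂ := fun h => hW (f.le_iff.2 h)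
  rcases f.control hW hW₂ (m.W_pt hF) (m.symm.W_pt (m.field₂ hF)) hF hr S hS hSr
    (char2_cent hrr hr1 m.char) with h | h
  · exact ⟨_, Or.inl rfl, m.tiOut hF ⟨r, hr, hr1, h⟩⟩
  · exact ⟨_, Or.inr rfl, m.symm.tiOut (m.field₂ hF) ⟨r, hr, hr1, h⟩⟩

end MixedN

end Cfsg.Agent.Omega.Mix

end

-- merged: Cfsg.Agent.Mrg.Omega.Lin.TIClose
section

section


/-!
Closing by the theorem on weakly closed TI subgroups (S1179, list `InList`).

`LEMMA TI`: `A` elementary abelian, `C_G(A) ≤ A`, `N_G(A)` transitive on `A#`,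
`C_G(a) ≤ N_G(A)` for one `a ∈ A#`; then S1179 applies to `A`.
-/

set_option autoImplicit false

namespace Cfsg.Agent.Omega.TIClose

open Cfsg Subgroup Pointwise Cfsg.Agent.WeakTI.Basic Cfsg.Agent.WeakTI.ReduceMain
  Cfsg.Agent.WeakTI.ReduceComponent Cfsg.Agent.WeakTI.ToS1179

universe u

section Trans

variable {G : Type u} [Group G]

/-- transitivity of `N_G(A)` on `A#` moves `C_G(a) ≤ N_G(A)` to all elements -/
theorem cent_le_of_trans {A : Subgroup G}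
    (htrans : ∀ x ∈ A, ∀ y ∈ A, x ≠ 1 → y ≠ 1 → ∃ n ∈ normalizer (A : Set G), n * x * n⁻¹ = y)
    {a : G} (haA : a ∈ A) (ha : a ≠ 1) (hca : centralizer ({a} : Set G) ≤ normalizer (A : Set G))
    {b : G} (hbA : b ∈ A) (hb : b ≠ 1) : centralizer ({b} : Set G) ≤ normalizer (A : Set G) := by
  intro c hc
  obtain ⟨n, hn, hnb⟩ := htrans b hbA a haA hb ha
  have h1 : n * c * n⁻¹ ∈ centralizer ({a} : Set G) := by
    rw [mem_centralizer_singleton_iff] at hc ⊢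
    rw [← hnb]
    have : c * b = b * c := hc
    calc n * c * n⁻¹ * (n * b * n⁻¹) = n * (c * b) * n⁻¹ := by group
      _ = n * (b * c) * n⁻¹ := by rw [this]
      _ = n * b * n⁻¹ * (n * c * n⁻¹) := by group
  have h2 := hca h1
  have h3 := mul_mem (mul_mem (inv_mem hn) h2) hn
  have h4 : n⁻¹ * (n * c * n⁻¹) * n = c := by group
  rwa [h4] at h3

/-- **LEMMA TI** -/
theorem wc_of_trans {A : Subgroup G} (hcent : centralizer (A : Set G) ≤ A)
    (htrans : ∀ x ∈ A, ∀ y ∈ A, x ≠ 1 → y ≠ 1 → ∃ n ∈ normalizer (A : Set G), n * x * n⁻¹ = y)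
    {a : G} (haA : a ∈ A) (ha : a ≠ 1) (hca : centralizer ({a} : Set G) ≤ normalizer (A : Set G)) :
    ∀ b ∈ A, b ≠ 1 → ∀ g : G, A.map (MulAut.conj g).toMonoidHom ≤ centralizer ({b} : Set G) →
      A.map (MulAut.conj g).toMonoidHom = A := by
  intro b hbA hb g hg
  have hcb := cent_le_of_trans htrans haA ha hca hbA hb
  -- `b' = g⁻¹ b g` centralises `A`
  have h1 : g⁻¹ * b * g ∈ centralizer (A : Set G) := by
    rw [mem_centralizer_iff]
    intro x hx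
    have h2 : g * x * g⁻¹ ∈ centralizer ({b} : Set G) := by
      apply hg
      exact ⟨x, hx, by simp⟩
    rw [mem_centralizer_singleton_iff] at h2
    have h3 : g * x * g⁻¹ * b = b * (g * x * g⁻¹) := h2
    calc x * (g⁻¹ * b * g) = g⁻¹ * (g * x * g⁻¹ * b) * g := by group
      _ = g⁻¹ * (b * (g * x * g⁻¹)) * g := by rw [h3]
      _ = g⁻¹ * b * g * x := by group
  have h2 := hcent h1
  have h3 : g⁻¹ * b * g ≠ 1 := by
    intro h
    apply hb
    have : b = g * (g⁻¹ * b * g) * g⁻¹ := by group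
    rw [this, h]; group
  obtain ⟨n, hn, hnb⟩ := htrans _ h2 b hbA h3 hb
  have h4 : n * g⁻¹ ∈ centralizer ({b} : Set G) := by
    rw [mem_centralizer_singleton_iff]
    have h5 : n * g⁻¹ * b = n * (g⁻¹ * b * g) * n⁻¹ * (n * g⁻¹) := by group
    change n * g⁻¹ * b = b * (n * g⁻¹)
    rw [h5, hnb]
  have h5 := hcb h4
  have h6 : g ∈ normalizer (A : Set G) := by
    have h7 := mul_mem (inv_mem h5) hn
    have h8 : (n * g⁻¹)⁻¹ * n = g := by group
    rwa [h8] at h7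
  rw [← cj_eq_map]
  exact mem_normalizer_iff_cj.mp h6

end Trans

section Known

variable {G : Type u} [Group G]

theorem solvable_psl_two {F : Type*} [Field F] [Fintype F] (h2 : Fintype.card F = 2) :
    Group.IsSolvable (Matrix.ProjectiveSpecialLinearGroup (Fin 2) F) := by
  have h1 := Cfsg.Agent.SmallSimple.PSLTwoPart.card_psl_two_even (F := F) (by rw [h2]; exact even_two)
  rw [h2] at h1
  have h3 : Squarefree (Nat.card (Matrix.ProjectiveSpecialLinearGroup (Fin 2) F)) := by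
    rw [h1]
    decide +kernel
  have := IsZGroup.of_squarefree h3
  infer_instance

/-- The groups of the list of S1179 are known simple groups. -/
theorem lists_of_inList [IsSimpleGroup G] (hna : ¬ IsMulCommutative G) (h : InList G) :
    IsLieTypeChar 2 G ∨ IsAlternating G ∨ IsSporadicGroup G := by
  have hsol : ¬ Group.IsSolvable G := by
    intro h
    apply hna
    exact ⟨⟨fun a b => IsSimpleGroup.comm_iff_isSolvable.mpr h a b⟩⟩
  rcases h with ⟨F, i1, i2, n, hchar, hn, ⟨e⟩⟩ | hS | ⟨F, i1, i2, m, hF, ⟨e⟩⟩ | ⟨k, hk, -, e⟩ | h | h | h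
  · left
    have : CharP F 2 := ringChar.eq_iff.mp hchar
    refine Or.inl ⟨F, i1, i2, this, n, hn, ?_, ⟨e⟩⟩
    rintro rfl
    by_contra hcon
    have h1 : 1 < Fintype.card F := Fintype.one_lt_card
    have h2 : Even (Fintype.card F) := by
      rw [Nat.even_iff]
      exact FiniteField.even_card_iff_char_two.mp hchar
    have h3 : Fintype.card F = 2 := by
      obtain ⟨k, hk⟩ := h2
      omega
    have := solvable_psl_two h3
    exact hsol (Group.isSolvable_of_isSolvable_injective (f := e.toMonoidHom) e.injective)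
  · left
    exact Or.inr (Or.inr (Or.inr (Or.inr (Or.inr (Or.inr (Or.inr (Or.inr (Or.inl ⟨rfl, hS⟩))))))))
  · left
    have : Fact (Nat.Prime 2) := ⟨Nat.prime_two⟩
    rcases m with _ | _ | m
    · exfalso
      have := Fintype.one_lt_card (α := F)
      rw [hF] at this
      norm_num at this
    · exfalso
      have hF' : Fintype.card F = 4 := by rw [hF]; norm_num
      have hsol1 := (Cfsg.Agent.S0282.result hF').2
      have hsol' : Group.IsSolvable G := by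
        have h1 : Group.IsSolvable (Cfsg.PSU 3 F (2 ^ (0 + 1))) := by simpa using hsol1
        exact Group.isSolvable_of_isSolvable_injective (f := e.toMonoidHom) e.injective
      exact hsol hsol'
    · have hF2 : Fintype.card F = (2 ^ (m + 2)) ^ 2 := by
        rw [hF, ← pow_mul, mul_comm, pow_mul]
        norm_num
      have hch : CharP F 2 := by
        apply charP_of_card_eq_prime_pow (p := 2) (f := 2 * (m + 2))
        rw [hF, pow_mul]
        norm_num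
      refine Or.inr (Or.inr (Or.inl ⟨F, i1, i2, hch, 3, 2 ^ (m + 2), hF2, le_rfl, ?_, ⟨e⟩⟩))
      rintro ⟨-, h⟩
      have := Nat.one_le_two_pow (n := m)
      rw [pow_add] at h
      omega
  · right; left
    exact ⟨k, by omega, e⟩
  · right; right
    simp only [IsSporadicGroup]; tauto
  · right; right
    simp only [IsSporadicGroup]; tauto
  · right; right
    simp only [IsSporadicGroup]; tauto

theorem known_of_inList [IsSimpleGroup G] (hna : ¬ IsMulCommutative G) (h : InList G) : IsKnownSimple' G := by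
  rcases lists_of_inList hna h with h | h | h
  · exact Cfsg.Agent.OddHalf.Known.known_of_isLie h
  · exact Or.inr (Or.inl h)
  · exact Or.inr (Or.inr (Or.inr (Or.inr (Or.inr (Or.inr (Or.inr (Or.inr (Or.inr h))))))))

end Known

section Close

variable {G : Type u} [Group G] [Finite G]

/-- closing from the hypothesis of S1179 -/
theorem inList_of_wc (Main : ∀ A : Subgroup G, Red A → InList G) [IsSimpleGroup G] (hna : ¬ IsMulCommutative G)
    {A : Subgroup G} (hA : Cfsg.IsElementaryAbelian 2 A) (hA1 : A ≠ ⊥)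
    (hwc : ∀ a ∈ A, a ≠ 1 → ∀ g : G, A.map (MulAut.conj g).toMonoidHom ≤ Subgroup.centralizer ({a} : Set G) →
      A.map (MulAut.conj g).toMonoidHom = A) : InList G := by
  have hne : ∃ a b : G, a * b ≠ b * a := by
    by_contra hcon
    push Not at hcon
    exact hna ⟨⟨hcon⟩⟩
  exact Main A (red_of_simple hne (wti_of_centralizer hA hA1 hwc))

/-- **Closing by LEMMA TI**, list form. -/
theorem inList_of_trans (Main : ∀ A : Subgroup G, Red A → InList G) [IsSimpleGroup G]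
    (hna : ¬ IsMulCommutative G) {A : Subgroup G} (hA : Cfsg.IsElementaryAbelian 2 A)
    (hcent : centralizer (A : Set G) ≤ A)
    (htrans : ∀ x ∈ A, ∀ y ∈ A, x ≠ 1 → y ≠ 1 → ∃ n ∈ normalizer (A : Set G), n * x * n⁻¹ = y)
    {a : G} (haA : a ∈ A) (ha : a ≠ 1) (hca : centralizer ({a} : Set G) ≤ normalizer (A : Set G)) :
    InList G := by
  refine inList_of_wc Main hna hA ?_ (wc_of_trans hcent htrans haA ha hca)
  rintro rfl
  exact ha (mem_bot.mp haA)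

/-- **Closing by LEMMA TI**. -/
theorem known_of_trans (Main : ∀ A : Subgroup G, Red A → InList G) [IsSimpleGroup G]
    (hna : ¬ IsMulCommutative G) {A : Subgroup G} (hA : Cfsg.IsElementaryAbelian 2 A)
    (hcent : centralizer (A : Set G) ≤ A)
    (htrans : ∀ x ∈ A, ∀ y ∈ A, x ≠ 1 → y ≠ 1 → ∃ n ∈ normalizer (A : Set G), n * x * n⁻¹ = y)
    {a : G} (haA : a ∈ A) (ha : a ≠ 1) (hca : centralizer ({a} : Set G) ≤ normalizer (A : Set G)) :
    IsKnownSimple' G :=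
  known_of_inList hna (inList_of_trans Main hna hA hcent htrans haA ha hca)

end Close

end Cfsg.Agent.Omega.TIClose

end

section


/-!
# A mixed pair, `q ≥ 4`, `W₁ ≠ V₁`: `G` is known (S1179)
-/

set_option autoImplicit false

namespace Cfsg.Agent.Omega.Mix

open Subgroup Cfsg.Agent.Omega.BTwo Cfsg.Agent.WeakTI.ReduceMain Cfsg.Agent.WeakTI.ReduceComponent

universe u

variable {G : Type u} [Group G] [Finite G] {F₁ F₂ : Type*} [Field F₁] [Field F₂] {V₁ V₂ N₁ N₂ : Subgroup G}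
  {M₁ : RMod F₁ V₁ N₁} {M₂ : RMod F₂ V₂ N₂} {R : Subgroup G}

/-- closing -/
theorem TIOut.known (Main : ∀ A : Subgroup G, Red A → InList G) [IsSimpleGroup G] (hna : ¬ IsMulCommutative G)
    {A : Subgroup G} (h : TIOut A) : Cfsg.IsKnownSimple' G := by
  obtain ⟨a, haA, ha1, hca⟩ := h.ctl
  exact TIClose.known_of_trans Main hna h.elem h.cent h.trans haA ha1 hca

/-- **a mixed pair, `q ≥ 4`, `W₁ ≠ V₁`** -/
theorem MixedN.known (Main : ∀ A : Subgroup G, Red A → InList G) [IsSimpleGroup G] (hna : ¬ IsMulCommutative G)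
    (m : MixedN M₁ M₂ R) [Finite F₁] [Finite F₂] [CharP F₁ 2] [CharP F₂ 2] (hF : ∃ l : F₁, l ≠ 0 ∧ l ≠ 1)
    (hW : ¬ LL V₁ R R ≤ V₁) : Cfsg.IsKnownSimple' G := by
  obtain ⟨A, -, h⟩ := m.exists_ti hF hW
  exact h.known Main hna

end Cfsg.Agent.Omega.Mix

end

section


/-!
# Additive subgroups of a finite field invariant under the cubes
-/

set_option autoImplicit false

namespace Cfsg.Agent.Omega.Lin.Cubes

open Polynomial

variable {F : Type*} [Field F]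

/-- **For `|F| ≥ 8` an additive subgroup `≠ 0` invariant under the cubes is everything.** -/
theorem eq_top [Finite F] (hq : 8 ≤ Nat.card F) (S : AddSubgroup F)
    (hS : ∀ y : F, y ≠ 0 → ∀ s ∈ S, y ^ 3 * s ∈ S) (hne : ∃ s ∈ S, s ≠ 0) : ∀ x, x ∈ S := by
  classical
  have := Fintype.ofFinite F
  rw [Nat.card_eq_fintype_card] at hq
  let E : Subring F := {
    carrier := {a | ∀ s ∈ S, a * s ∈ S}
    mul_mem' := fun {a b} ha hb s hs => by rw [mul_assoc]; exact ha _ (hb s hs)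
    one_mem' := fun s hs => by rwa [one_mul]
    add_mem' := fun {a b} ha hb s hs => by rw [add_mul]; exact S.add_mem (ha s hs) (hb s hs)
    zero_mem' := fun s _ => by rw [zero_mul]; exact S.zero_mem
    neg_mem' := fun {a} ha s hs => by rw [neg_mul]; exact S.neg_mem (ha s hs) }
  have hE : ∀ a, a ∈ E ↔ ∀ s ∈ S, a * s ∈ S := fun a => Iff.rfl
  have hinv : ∀ b ∈ E, b ≠ 0 → b⁻¹ ∈ E := by
    intro b hb hb0
    have h1 : b ^ (Fintype.card F - 1) = 1 := FiniteField.pow_card_sub_one_eq_one b hb0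
    have h2 : b⁻¹ = b ^ (Fintype.card F - 2) := by
      refine (eq_inv_of_mul_eq_one_left ?_).symm
      rw [← pow_succ, ← h1]
      congr 1
      omega
    rw [h2]
    exact E.pow_mem hb _
  have htop : ∀ x, x ∈ E := by
    by_contra hcon
    push Not at hcon
    obtain ⟨x, hx⟩ := hcon
    have hc1 : Fintype.card E * Fintype.card E ≤ Fintype.card F := by
      rw [← Fintype.card_prod]
      refine Fintype.card_le_of_injective (fun p : E × E => (p.1 : F) + p.2 * x) ?_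
      rintro ⟨⟨a, ha⟩, ⟨b, hb⟩⟩ ⟨⟨a', ha'⟩, ⟨b', hb'⟩⟩ h
      have h' : a + b * x = a' + b' * x := h
      by_cases hbb : b = b'
      · subst hbb
        have : a = a' := add_right_cancel h'
        subst this
        rfl
      · exfalso
        apply hx
        have h1 : x = (b - b')⁻¹ * (a' - a) := by
          rw [eq_inv_mul_iff_mul_eq₀ (sub_ne_zero.2 hbb)]
          linear_combination h'
        rw [h1]
        exact E.mul_mem (hinv _ (E.sub_mem hb hb') (sub_ne_zero.2 hbb)) (E.sub_mem ha' ha)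
    have hc2 : (Finset.univ.erase (0 : F)).card ≤
        3 * ((Finset.univ.erase (0 : F)).image fun y => y ^ 3).card := by
      refine Finset.card_le_mul_card_image _ 3 fun b _ => ?_
      refine le_trans (Finset.card_le_card (t := (nthRoots 3 b).toFinset) ?_)
        (le_trans (Multiset.toFinset_card_le _) (card_nthRoots 3 b))
      intro y hy
      rw [Finset.mem_filter] at hy
      rw [Multiset.mem_toFinset, mem_nthRoots (by norm_num)]
      exact hy.2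
    have hc3 : ((Finset.univ.erase (0 : F)).image fun y => y ^ 3).card ≤ Fintype.card E - 1 := by
      have h1 : ((Finset.univ.erase (0 : F)).image fun y => y ^ 3) ⊆
          ((Finset.univ : Finset E).image (fun e : E => (e : F))).erase 0 := by
        intro z hz
        rw [Finset.mem_image] at hz
        obtain ⟨y, hy, rfl⟩ := hz
        have hy0 : y ≠ 0 := (Finset.mem_erase.1 hy).1
        rw [Finset.mem_erase]
        refine ⟨pow_ne_zero _ hy0, Finset.mem_image.2 ⟨⟨y ^ 3, ?_⟩, Finset.mem_univ _, rfl⟩⟩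
        exact fun s hs => hS y hy0 s hs
      refine le_trans (Finset.card_le_card h1) ?_
      have h0 : (0 : F) ∈ (Finset.univ : Finset E).image (fun e : E => (e : F)) :=
        Finset.mem_image.2 ⟨0, Finset.mem_univ _, rfl⟩
      rw [Finset.card_erase_of_mem h0]
      refine Nat.sub_le_sub_right ?_ 1
      exact le_trans Finset.card_image_le (le_of_eq Finset.card_univ)
    rw [Finset.card_erase_of_mem (Finset.mem_univ _), Finset.card_univ] at hc2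
    have hE1 : 1 ≤ Fintype.card E := Fintype.card_pos
    generalize Fintype.card E = e at hc1 hc3 hE1
    generalize ((Finset.univ.erase (0 : F)).image fun y => y ^ 3).card = m at hc2 hc3
    generalize Fintype.card F = q at hq hc1 hc2
    have h1 : q ≤ 3 * e := by omega
    have h2 : e ≤ 3 := by
      by_contra h
      have : 4 * e ≤ e * e := Nat.mul_le_mul_right e (by omega)
      omega
    have h3 : q ≤ 3 * e - 2 := by omega
    interval_cases e <;> omega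
  obtain ⟨s, hs, hs0⟩ := hne
  intro x
  have h := htop (x * s⁻¹) s hs
  rwa [inv_mul_cancel_right₀ hs0] at h

end Cfsg.Agent.Omega.Lin.Cubes

end

section


/-!
# A mixed pair with `W₁ = V₁`, `q ≥ 8`

The torus elements of `C(R)` act on `V₁ / R` as the cubes and on `V₂ / R` as the inverses of the cubes.
-/

set_option autoImplicit false
set_option linter.unusedSectionVars false

namespace Cfsg.Agent.Omega.Mix

open Subgroup Cfsg.Agent.Lib.SL2Mat Cfsg.Agent.Omega.BTwo Cfsg.Agent.Omega.Lin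
open Cfsg.Agent.Omega.NatPair (dt dt_smul dt_add exists_smul_of_dt exists_comb ap ap_smul ap_zero' ap_one' ap_mul
  ap_inv_ap ap_ap_inv ap_one)

universe u

variable {G : Type u} [Group G]

/-- the form under an element normalising everything -/
theorem Pai.fm_conj {F : Type*} [Field F] {κ : F → G} {W W' R : Subgroup G} (p : Pai κ W W' R) {g : G} {ν : F}
    (hW : g ∈ normalizer (W : Set G)) (hW' : g ∈ normalizer (W' : Set G)) (hg : ∀ z, g * κ z * g⁻¹ = κ (ν * z)) {a b : G}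
    (ha : a ∈ W) (hb : b ∈ W') : fm κ (g * a * g⁻¹) (g * b * g⁻¹) = ν * fm κ a b := by
  apply p.κ_inj
  rw [p.spec (conj_mem_of_normalizer hW ha) (p.tst (conj_mem_of_normalizer hW' hb)), ← hg, p.spec ha (p.tst hb)]
  group

namespace FIn

variable {F₁ F₂ : Type*} [Field F₁] [Field F₂] {V₁ V₂ N₁ N₂ : Subgroup G} {M₁ : RMod F₁ V₁ N₁}
  {M₂ : RMod F₂ V₂ N₂} {R : Subgroup G} {w₁ : Fin 2 → F₁} {w₂ : Fin 2 → F₂} (f : FIn M₁ M₂ R w₁ w₂) [Finite G]
include f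

theorem ker_one (h₁ : LL V₁ R R ≤ V₁) {a b : G} (ha : a ∈ LL V₁ R R) (hb : b ∈ LL V₂ R R) (hab : a * b = b * a)
    (hbR : b ∉ R) : a ∈ R := by
  by_contra haR
  apply hbR
  refine f.pai.nd' b hb fun a' ha' => ?_
  exact comm_line M₁ f.ne₁ f.line₁ (f.W₂_ZZ hb) (one_mem _) (a := a)
    (by rw [cj_one]; exact h₁ ha) haR hab a' (by rw [cj_one]; exact h₁ ha')

variable [Finite F₁] [Finite F₂] [CharP F₁ 2] [CharP F₂ 2]

/-- the weights -/
theorem wt (h₁ : LL V₁ R R ≤ V₁) (h₂ : LL V₂ R R ≤ V₂) (hC₁ : ∀ i, LL V₁ R (pt M₁ i) = LL V₁ R R)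
    (hC₂ : ∀ i, LL V₂ R (pt M₂ i) = LL V₂ R R) {μ : F₁} (hμ : μ ≠ 0) :
    ∃ g ∈ centralizer (R : Set G),
      (∀ a ∈ LL V₁ R R, ∀ y ∈ LL V₂ R R, fm (kap M₁ w₁) (g * a * g⁻¹) y = μ ^ 3 * fm (kap M₁ w₁) a y) ∧
      ∀ b ∈ LL V₂ R R, ∀ x ∈ LL V₁ R R, fm (kap M₁ w₁) x (g * b * g⁻¹) = (μ⁻¹) ^ 3 * fm (kap M₁ w₁) x b := by
  have p := f.pai
  set κ := kap M₁ w₁ with hκ
  obtain ⟨g₁, hg₁, hz₁, hv₁, -⟩ := f.tor₁ hC₁ (inv_ne_zero hμ)
  obtain ⟨g₂, hg₂, hz₂, hv₂, -⟩ := f.tor₂ hC₂ (k := 1) (one_mem _) hμ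
  have n11 := normalizer_le_LL V₁ R R hg₁
  have n12 := normalizer_le_LL V₂ R R hg₁
  have n21 := normalizer_le_LL V₁ R R hg₂
  have n22 := normalizer_le_LL V₂ R R hg₂
  rw [inv_inv] at hv₁
  -- `g₁` on `V₁`, `V₂`
  have e1 : ∀ a ∈ LL V₁ R R, ∀ y ∈ LL V₂ R R, fm κ (g₁ * a * g₁⁻¹) y = μ * fm κ a y := fun a ha y hy =>
    (hv₁ a (h₁ ha)).2 y hy
  have e2 : ∀ b ∈ LL V₂ R R, ∀ x ∈ LL V₁ R R, fm κ x (g₁ * b * g₁⁻¹) = μ⁻¹ * (μ⁻¹ * fm κ x b) := by
    intro b hb x hx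
    have hx' : g₁⁻¹ * x * g₁ ∈ LL V₁ R R := conj_inv_mem_of_normalizer n11 hx
    have h3 := p.fm_conj n11 n12 hz₁ hx' hb
    have e : g₁ * (g₁⁻¹ * x * g₁) * g₁⁻¹ = x := by group
    rw [e] at h3
    have h4 := e1 _ hx' b hb
    rw [e] at h4
    rw [h3, h4, ← mul_assoc μ⁻¹ μ, inv_mul_cancel₀ hμ, one_mul]
  -- `g₂` on `V₂`, `V₁`
  have e3 : ∀ b ∈ LL V₂ R R, ∀ x ∈ LL V₁ R R, fm κ x (g₂ * b * g₂⁻¹) = μ⁻¹ * fm κ x b := by
    intro b hb x hx
    have h3 := (hv₂ b (by rw [cj_one]; exact h₂ hb)).2 x hx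
    rw [p.swap hx (p.tst (conj_mem_of_normalizer n22 hb)), p.swap hx (p.tst hb), mul_neg, neg_inj] at h3
    exact h3
  have e4 : ∀ a ∈ LL V₁ R R, ∀ y ∈ LL V₂ R R, fm κ (g₂ * a * g₂⁻¹) y = μ * (μ * fm κ a y) := by
    intro a ha y hy
    have hy' : g₂⁻¹ * y * g₂ ∈ LL V₂ R R := conj_inv_mem_of_normalizer n22 hy
    have h3 := p.fm_conj n21 n22 hz₂ ha hy'
    have e : g₂ * (g₂⁻¹ * y * g₂) * g₂⁻¹ = y := by group
    rw [e] at h3
    have h4 := e3 _ hy' a ha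
    rw [e] at h4
    rw [h3, h4, ← mul_assoc μ μ⁻¹, mul_inv_cancel₀ hμ, one_mul]
  refine ⟨g₁ * g₂, ?_, ?_, ?_⟩
  · rw [mem_centralizer_iff]
    intro r hr
    obtain ⟨z, rfl⟩ := (p.κ_mem r).1 hr
    have h3 : g₁ * g₂ * κ z * (g₁ * g₂)⁻¹ = κ z := by
      calc g₁ * g₂ * κ z * (g₁ * g₂)⁻¹ = g₁ * (g₂ * κ z * g₂⁻¹) * g₁⁻¹ := by group
        _ = κ z := by rw [hz₂, hz₁, ← mul_assoc, inv_mul_cancel₀ hμ, one_mul]
    exact (mul_inv_eq_iff_eq_mul.1 h3).symm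
  · intro a ha y hy
    have e : g₁ * g₂ * a * (g₁ * g₂)⁻¹ = g₁ * (g₂ * a * g₂⁻¹) * g₁⁻¹ := by group
    rw [e, e1 _ (conj_mem_of_normalizer n21 ha) y hy, e4 a ha y hy]
    ring
  · intro b hb x hx
    have e : g₁ * g₂ * b * (g₁ * g₂)⁻¹ = g₁ * (g₂ * b * g₂⁻¹) * g₁⁻¹ := by group
    rw [e, e2 _ (conj_mem_of_normalizer n22 hb) x hx, e3 b hb x hx]
    ring

/-- an element of `W₂ - R` -/
theorem exists_not_R : ∃ b ∈ LL V₂ R R, b ∉ R := by
  by_contra hcon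
  push Not at hcon
  exact f.symm.R_ne_W₁ (le_antisymm f.symm.R_W₁ hcon)

/-- `C(R)` is irreducible on `W₁ / R` -/
theorem irr_one (h₁ : LL V₁ R R ≤ V₁) (h₂ : LL V₂ R R ≤ V₂) (hC₁ : ∀ i, LL V₁ R (pt M₁ i) = LL V₁ R R)
    (hC₂ : ∀ i, LL V₂ R (pt M₂ i) = LL V₂ R R) (hq : 8 ≤ Nat.card F₁) (X : Subgroup G) (hRX : R ≤ X)
    (hXW : X ≤ LL V₁ R R) (hX : ∀ c ∈ centralizer (R : Set G), ∀ x ∈ X, c * x * c⁻¹ ∈ X) :
    X = R ∨ X = LL V₁ R R := by
  have p := f.pai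
  set κ := kap M₁ w₁ with hκ
  by_cases hXR : X ≤ R
  · exact Or.inl (le_antisymm hXR hRX)
  right
  refine le_antisymm hXW fun a ha => ?_
  obtain ⟨y, hy, hyR⟩ := f.exists_not_R
  have ht := p.tst hy
  let S : AddSubgroup F₁ :=
    { carrier := {c | ∃ x ∈ X, fm κ x y = c}
      zero_mem' := ⟨1, one_mem _, p.one_left ht⟩
      add_mem' := by
        rintro _ _ ⟨x, hx, rfl⟩ ⟨x', hx', rfl⟩
        exact ⟨x * x', mul_mem hx hx', p.mul_left (hXW hx) (hXW hx') ht⟩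
      neg_mem' := by
        rintro _ ⟨x, hx, rfl⟩
        exact ⟨x⁻¹, inv_mem hx, p.inv_left (hXW hx) ht⟩ }
  obtain ⟨x₀, hx₀, hx₀R⟩ : ∃ x ∈ X, x ∉ R := by
    by_contra hcon
    push Not at hcon
    exact hXR hcon
  have key := Cubes.eq_top hq S (by
    rintro μ hμ _ ⟨x, hx, rfl⟩
    obtain ⟨g, hg, h3, -⟩ := f.wt h₁ h₂ hC₁ hC₂ hμ
    exact ⟨g * x * g⁻¹, hX g hg x hx, h3 x (hXW hx) y hy⟩)
    ⟨fm κ x₀ y, ⟨x₀, hx₀, rfl⟩, fun h => hx₀R (f.ker_one h₁ (hXW hx₀) hy ((p.fm_eq_zero (hXW hx₀) ht).1 h) hyR)⟩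
  obtain ⟨x, hx, hxy⟩ := key (fm κ a y)
  have h3 : fm κ (a * x⁻¹) y = 0 := by
    rw [p.mul_left ha (inv_mem (hXW hx)) ht, p.inv_left (hXW hx) ht, hxy, add_neg_cancel]
  have h4 : a * x⁻¹ ∈ LL V₁ R R := mul_mem ha (inv_mem (hXW hx))
  have h5 := hRX (f.ker_one h₁ h4 hy ((p.fm_eq_zero h4 ht).1 h3) hyR)
  have h6 := mul_mem h5 hx
  rwa [inv_mul_cancel_right] at h6

/-- **no graph** -/
theorem no_graph_one (h₁ : LL V₁ R R ≤ V₁) (h₂ : LL V₂ R R ≤ V₂) (hC₁ : ∀ i, LL V₁ R (pt M₁ i) = LL V₁ R R)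
    (hC₂ : ∀ i, LL V₂ R (pt M₂ i) = LL V₂ R R) (hq : 8 ≤ Nat.card F₁) {O : Subgroup G}
    (hO : ∀ c ∈ centralizer (R : Set G), ∀ x ∈ O, c * x * c⁻¹ ∈ O) (hRO : R ≤ O)
    (hab : ∀ x ∈ O, ∀ y ∈ O, x * y = y * x) (h₁' : O ⊓ LL V₁ R R = R) (h₂' : O ⊓ LL V₂ R R = R)
    (hgr : ∀ w ∈ LL V₁ R R, ∃ v ∈ LL V₂ R R, w * v ∈ O) : False := by
  have p := f.pai
  set κ := kap M₁ w₁ with hκ
  have hR₂ : ∀ x ∈ O, x ∈ LL V₂ R R → x ∈ R := fun x h1 h2 => by rw [← h₂']; exact ⟨h1, h2⟩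
  have hlin := p.graph_lin hRO hab hgr
  obtain ⟨a, ha, haR⟩ : ∃ v ∈ LL V₁ R R, v ∉ R := by
    by_contra hcon
    push Not at hcon
    exact f.R_ne_W₁ (le_antisymm f.R_W₁ hcon)
  obtain ⟨b, hb, hO1⟩ := hgr a ha
  have hbR : b ∉ R := by
    intro h
    apply haR
    rw [← h₁']
    refine ⟨?_, ha⟩
    have := mul_mem hO1 (inv_mem (hRO h))
    rwa [mul_inv_cancel_right] at this
  obtain ⟨x, hx, hxb⟩ : ∃ x ∈ LL V₁ R R, fm κ x b ≠ 0 := by
    by_contra hc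
    push Not at hc
    exact hbR (p.nd' b hb fun x hx => (p.fm_eq_zero hx (p.tst hb)).1 (hc x hx))
  -- all `μ ≠ 0` satisfy `μ³ = 1`
  have key : ∀ μ : F₁, μ ≠ 0 → μ ^ 3 = 1 := by
    intro μ hμ
    obtain ⟨g, hg, hv, hw⟩ := f.wt h₁ h₂ hC₁ hC₂ hμ
    have hgN : g ∈ normalizer (R : Set G) := by
      refine mem_normalizer_of_conj fun r hr => ?_
      rw [← mem_centralizer_iff.1 hg r hr, mul_inv_cancel_right]; exact hr
    have ha₃W : g * a * g⁻¹ ∈ LL V₁ R R := conj_mem_of_normalizer (normalizer_le_LL V₁ R R hgN) ha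
    have hb₃W : g * b * g⁻¹ ∈ LL V₂ R R := conj_mem_of_normalizer (normalizer_le_LL V₂ R R hgN) hb
    have hO3 : g * a * g⁻¹ * (g * b * g⁻¹) ∈ O := by
      have h3 := hO g hg _ hO1
      have e : g * (a * b) * g⁻¹ = g * a * g⁻¹ * (g * b * g⁻¹) := by group
      rwa [e] at h3
    obtain ⟨b₁, hb₁W, hb₁⟩ := p.lin_right f.lin₂ f.symm.W₂_ZZ (μ ^ 3) hb
    have hO4 := hlin a ha b hb hO1 (μ ^ 3) _ ha₃W b₁ hb₁W (hv a ha) hb₁
    have h6 := mul_mem (inv_mem hO4) hO3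
    have e7 : (g * a * g⁻¹ * b₁)⁻¹ * (g * a * g⁻¹ * (g * b * g⁻¹)) = b₁⁻¹ * (g * b * g⁻¹) := by group
    rw [e7] at h6
    have h7 := hR₂ _ h6 (mul_mem (inv_mem hb₁W) hb₃W)
    have h8 : fm κ x (b₁⁻¹ * (g * b * g⁻¹)) = 0 := p.R_right hx h7
    rw [p.mul_right hx (p.tst_inv (p.tst hb₁W)) (p.tst hb₃W), p.inv_right hx (p.tst hb₁W), hb₁ x hx, hw b hb x hx,
      neg_add_eq_zero] at h8
    have h9 := mul_right_cancel₀ hxb h8
    have h10 : (μ ^ 3) ^ 2 ^ 1 = 1 := by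
      have h11 : μ ^ 3 * μ ^ 3 = 1 := by
        nth_rewrite 1 [h9]
        field_simp
      rw [← h11]
      ring
    exact NatPair.eq_one_of_pow h10
  -- too many roots
  classical
  have := Fintype.ofFinite F₁
  rw [Nat.card_eq_fintype_card] at hq
  have h3 : (Finset.univ.erase (0 : F₁)).card ≤ 3 := by
    refine le_trans (Finset.card_le_card (t := (Polynomial.nthRoots 3 (1 : F₁)).toFinset) ?_)
      (le_trans (Multiset.toFinset_card_le _) (Polynomial.card_nthRoots 3 1))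
    intro y hy
    rw [Multiset.mem_toFinset, Polynomial.mem_nthRoots (by norm_num)]
    exact key y (Finset.mem_erase.1 hy).1
  rw [Finset.card_erase_of_mem (Finset.mem_univ _), Finset.card_univ] at h3
  omega

/-- **CONTROL**, `W₁ = V₁`, `q ≥ 8` -/
theorem control_one (h₁ : LL V₁ R R ≤ V₁) (h₂ : LL V₂ R R ≤ V₂) (hC₁ : ∀ i, LL V₁ R (pt M₁ i) = LL V₁ R R)
    (hC₂ : ∀ i, LL V₂ R (pt M₂ i) = LL V₂ R R) (hq₁ : 8 ≤ Nat.card F₁) (hq₂ : 8 ≤ Nat.card F₂) {r : G} (hr : r ∈ R)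
    (S : Sylow 2 G) (hS : (S : Subgroup G) ≤ normalizer (R : Set G)) (hSr : ∀ s ∈ S, s * r = r * s)
    (hK : Char2 (centralizer ({r} : Set G))) :
    centralizer ({r} : Set G) ≤ normalizer (LL V₁ R R : Set G) ∨
      centralizer ({r} : Set G) ≤ normalizer (LL V₂ R R : Set G) :=
  f.control_of (f.irr_one h₁ h₂ hC₁ hC₂ hq₁) (f.symm.irr_one h₂ h₁ hC₂ hC₁ hq₂)
    (fun _ a1 a2 a3 a4 a5 a6 => f.no_graph_one h₁ h₂ hC₁ hC₂ hq₁ a1 a2 a3 a4 a5 a6) hr S hS hSr hK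

end FIn

namespace MixedN

variable {F₁ F₂ : Type*} [Field F₁] [Field F₂] {V₁ V₂ N₁ N₂ : Subgroup G} {M₁ : RMod F₁ V₁ N₁}
  {M₂ : RMod F₂ V₂ N₂} {R : Subgroup G} (m : MixedN M₁ M₂ R) [Finite G] [Finite F₁] [Finite F₂] [CharP F₁ 2]
  [CharP F₂ 2]
include m

/-- **`q ≥ 8`** (any `W₁`) -/
theorem exists_ti_eight (hq : 8 ≤ Nat.card F₁) :
    ∃ A : Subgroup G, (A = LL V₁ R R ∨ A = LL V₂ R R) ∧ TIOut A := by
  have hF : ∃ l : F₁, l ≠ 0 ∧ l ≠ 1 := by
    by_contra hcon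
    push Not at hcon
    have h4 : Function.Surjective (fun i : Fin 2 => if i = 0 then (0 : F₁) else 1) := by
      intro x
      by_cases h : x = 0
      · exact ⟨0, by rw [h]; rfl⟩
      · exact ⟨1, by rw [hcon x h]; rfl⟩
    have h5 := Nat.card_le_card_of_surjective _ h4
    simp at h5
    omega
  by_cases hW : LL V₁ R R ≤ V₁
  · obtain ⟨w₁, w₂, f⟩ := m.exists_fin
    obtain ⟨r, hr, hr1, hrr, S, -, -, hS, hSr⟩ := m.exists_r
    rcases f.control_one hW (f.le_of_le hW) (m.W_pt hF) (m.symm.W_pt (m.field₂ hF)) hq (by rw [← m.card_eq]; exact hq)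
      hr S hS hSr (char2_cent hrr hr1 m.char) with h | h
    · exact ⟨_, Or.inl rfl, m.tiOut hF ⟨r, hr, hr1, h⟩⟩
    · exact ⟨_, Or.inr rfl, m.symm.tiOut (m.field₂ hF) ⟨r, hr, hr1, h⟩⟩
  · exact m.exists_ti hF hW

end MixedN

end Cfsg.Agent.Omega.Mix

end

section


/-!
# Mixed pairs: the global form (`MixedN ⇒ FIn`, `N₁ ≤ N(W₁)`, `N(W₁)` transitive on `W₁#`)

`m : MixedN M₁ M₂ R`, `W₁ = LL V₁ R R`:

* `MixedN.fin` : `FIn M₁ M₂ R w₁ w₂`;
* `MixedN.C_eq` (`|F₁| ≥ 4`) : `W₁(R i)` is the same for all points of `V₁`; `MixedN.N_le` : `N₁ ≤ N(W₁)`;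
* `MixedN.W_trans` : `N(W₁)` is transitive on `W₁#`; `MixedN.W_el`, `MixedN.W_cent`.
-/

set_option autoImplicit false
set_option linter.unusedSectionVars false

namespace Cfsg.Agent.Omega.Mix

open Subgroup Cfsg.Agent.Omega.BTwo

variable {G : Type*} [Group G]

theorem exists_ne_of_card {F : Type*} [Field F] [Finite F] (h : 4 ≤ Nat.card F) : ∃ l : F, l ≠ 0 ∧ l ≠ 1 := by
  classical
  by_contra hc
  push Not at hc
  have : Fintype F := Fintype.ofFinite F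
  rw [Nat.card_eq_fintype_card] at h
  have h1 : (Finset.univ : Finset F) ⊆ ({0, 1} : Finset F) := by
    intro x _
    rw [Finset.mem_insert, Finset.mem_singleton]
    by_cases hx : x = 0
    · exact Or.inl hx
    · exact Or.inr (hc x hx)
  have h2 := Finset.card_le_card h1
  have h3 : ({0, 1} : Finset F).card ≤ 2 := Finset.card_le_two
  rw [Finset.card_univ] at h2
  omega

namespace MixedN

variable {F₁ F₂ : Type*} [Field F₁] [Field F₂] {V₁ V₂ N₁ N₂ : Subgroup G} {M₁ : RMod F₁ V₁ N₁} {M₂ : RMod F₂ V₂ N₂}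
  {R : Subgroup G} (m : MixedN M₁ M₂ R) [Finite G] [Finite F₁] [Finite F₂] [CharP F₁ 2] [CharP F₂ 2]
include m

theorem fin {w₁ : Fin 2 → F₁} {w₂ : Fin 2 → F₂} (hw₁ : w₁ ≠ 0) (hw₂ : w₂ ≠ 0) (h₁ : R = M₁.line w₁)
    (h₂ : R = M₂.line w₂) : FIn M₁ M₂ R w₁ w₂ where
  ne₁ := hw₁
  ne₂ := hw₂
  line₁ := h₁
  line₂ := h₂
  Q₁ := m.QQ_le_UW hw₁ h₁
  Q₂ := m.symm.QQ_le_UW hw₂ h₂
  VQ₁ := m.V_le_QQ
  VQ₂ := m.symm.V_le_QQ
  comm₁ := m.comm₁
  comm₂ := m.comm₂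
  cen := m.center.le
  side₁ := m.side
  side₂ := m.symm.side

theorem exists_fin' : ∃ (w₁ : Fin 2 → F₁) (w₂ : Fin 2 → F₂), FIn M₁ M₂ R w₁ w₂ := by
  obtain ⟨w₁, hw₁, h₁⟩ := m.line₁
  obtain ⟨w₂, hw₂, h₂⟩ := m.line₂
  exact ⟨w₁, w₂, m.fin hw₁ hw₂ h₁ h₂⟩

theorem BC_inf (i : Pt M₁) : ∀ f ∈ LL V₂ R (pt M₁ i), f ∈ LL V₁ R (pt M₁ i) → f ∈ pt M₁ i := by
  intro f hf hf'
  rw [← m.center_at i, mem_YY]
  exact ⟨fun b hb => m.side.B_comm i f hf b hb, fun c hc => m.side.C_comm i f hf' c hc⟩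

/-- **(8)** `W₁(R i)` is the same for all points of `V₁` -/
theorem C_eq (h4 : 4 ≤ Nat.card F₁) (i : Pt M₁) : LL V₁ R (pt M₁ i) = LL V₁ R R := by
  obtain ⟨j, hj⟩ := m.exists_pt
  have := m.side.C_eq_of_cen (exists_ne_of_card h4) m.BC_inf i j
  rw [this, hj]

/-- `N₁ ≤ N(W₁)` -/
theorem N_le (h4 : 4 ≤ Nat.card F₁) : N₁ ≤ normalizer (LL V₁ R R : Set G) := by
  intro g hg
  obtain ⟨j, hj⟩ := m.exists_pt
  obtain ⟨k, hk⟩ := M₁.cj_pt hg j
  rw [hj] at hk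
  rw [← cj_eq_self_iff, cj_LL hk, m.C_eq h4]

/-- `W₁` is elementary abelian -/
theorem W_sq {x : G} (hx : x ∈ LL V₁ R R) : x * x = 1 := by
  obtain ⟨j, hj⟩ := m.exists_pt
  have := m.side.C_sq j x
  rw [hj] at this
  exact this hx

theorem W_el : Cfsg.IsElementaryAbelian 2 (LL V₁ R R : Subgroup G) :=
  ⟨⟨⟨fun a b => Subtype.ext (m.comm₁ a a.2 b b.2)⟩⟩, fun a ha => by
    rw [pow_two]
    exact m.W_sq ha⟩

/-- `C_G(W₁) ≤ W₁` -/
theorem W_cent : centralizer (LL V₁ R R : Set G) ≤ LL V₁ R R := by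
  obtain ⟨w₁, w₂, f⟩ := m.exists_fin'
  exact f.cen_W₁

/-- **`N(W₁)` is transitive on `W₁#`** -/
theorem W_trans (h4 : 4 ≤ Nat.card F₁) : ∀ x ∈ LL V₁ R R, ∀ y ∈ LL V₁ R R, x ≠ 1 → y ≠ 1 →
    ∃ n ∈ normalizer (LL V₁ R R : Set G), n * x * n⁻¹ = y := by
  obtain ⟨w₁, w₂, f⟩ := m.exists_fin'
  intro x hx y hy hx1 hy1
  obtain ⟨h, hh, hxh⟩ := f.cover hx
  obtain ⟨k, hk, hyk⟩ := f.cover hy
  rw [mem_cj] at hxh hyk
  have hR := normalizer_le_LL V₁ R R
  obtain ⟨l, hl, e⟩ := M₁.trans hxh (fun h0 => hx1 (by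
    have : x = h * (h⁻¹ * x * h) * h⁻¹ := by group
    rw [this, h0]; group)) hyk (fun h0 => hy1 (by
    have : y = k * (k⁻¹ * y * k) * k⁻¹ := by group
    rw [this, h0]; group))
  refine ⟨k * l * h⁻¹, mul_mem (mul_mem (hR hk) (m.N_le h4 hl)) (inv_mem (hR hh)), ?_⟩
  calc k * l * h⁻¹ * x * (k * l * h⁻¹)⁻¹ = k * (l * (h⁻¹ * x * h) * l⁻¹) * k⁻¹ := by group
    _ = k * (k⁻¹ * y * k) * k⁻¹ := by rw [e]
    _ = y := by group

end MixedN

end Cfsg.Agent.Omega.Mix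

end

end
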